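import Mathlib.GroupTheory.Perm.Sign
import Mathlib.Data.Finset.Prod
import Mathlib.Data.Fintype.Card
import Mathlib.Data.Set.Card
import Mathlib.Tactic

/-!
# Sets of transpositions closed under thirds with constant valency
-/

set_option autoImplicit false

namespace CfsgLib.FischerThm.SymAux

open Equiv

theorem pair_of_swap_eq {α : Type*} [DecidableEq α] {a b c e : α} (hab : a ≠ b)
    (h : swap a b = swap c e) : (a = c ∧ b = e) ∨ (a = e ∧ b = c) := by
  have h1 : b = swap c e a := by rw [← h, swap_apply_left]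
  rw [swap_apply_def] at h1
  split_ifs at h1 with h2 h3
  · exact Or.inl ⟨h2, h1⟩
  · exact Or.inr ⟨h3, h1⟩
  · exact absurd h1.symm hab

theorem commute_swaps_iff {α : Type*} [DecidableEq α] {a b c e : α} (hab : a ≠ b) (hce : c ≠ e) :
    Commute (swap a b) (swap c e) ↔ swap a b = swap c e ∨ (c ≠ a ∧ c ≠ b ∧ e ≠ a ∧ e ≠ b) := by
  constructor
  · intro h
    have h1 : swap (swap a b c) (swap a b e) = swap c e := by
      rw [swap_apply_apply, h.eq, mul_inv_cancel_right]
    rcases pair_of_swap_eq ((swap a b).injective.ne hce) h1 with ⟨h2, h3⟩ | ⟨h2, h3⟩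
    · have key : ∀ x, swap a b x = x → x ≠ a ∧ x ≠ b := fun x hx =>
        ⟨fun he => hab (by rw [he, swap_apply_left] at hx; exact hx.symm),
          fun he => hab (by rw [he, swap_apply_right] at hx; exact hx)⟩
      exact Or.inr ⟨(key c h2).1, (key c h2).2, (key e h3).1, (key e h3).2⟩
    · left
      rw [swap_apply_def] at h2
      split_ifs at h2 with h4 h5
      · rw [h4, h2]
      · rw [h5, h2, swap_comm]
      · exact absurd h2 hce
  · rintro (h | ⟨h1, h2, h3, h4⟩)
    · rw [h]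
    · show swap a b * swap c e = swap c e * swap a b
      rw [← mul_inv_eq_iff_eq_mul, ← swap_apply_apply, swap_apply_of_ne_of_ne h1 h2,
        swap_apply_of_ne_of_ne h3 h4]

variable {m : ℕ}

/-- The transpositions of the related pairs. -/
def swapsOf (Q : Fin m → Fin m → Prop) : Set (Perm (Fin m)) := {σ | ∃ x y, Q x y ∧ σ = swap x y}

theorem two_mul_ncard_swapsOf (Q : Fin m → Fin m → Prop) (hs : ∀ x y, Q x y → Q y x)
    (hi : ∀ x, ¬ Q x x) : 2 * (swapsOf Q).ncard = {p : Fin m × Fin m | Q p.1 p.2}.ncard := by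
  set L := {p : Fin m × Fin m | Q p.1 p.2 ∧ p.1 < p.2} with hL
  have h1 : swapsOf Q = (fun p : Fin m × Fin m => swap p.1 p.2) '' L := by
    ext σ
    constructor
    · rintro ⟨x, y, hxy, rfl⟩
      rcases lt_trichotomy x y with h | h | h
      · exact ⟨(x, y), ⟨hxy, h⟩, rfl⟩
      · exact absurd (h ▸ hxy) (hi y)
      · exact ⟨(y, x), ⟨hs x y hxy, h⟩, swap_comm y x⟩
    · rintro ⟨p, hp, rfl⟩
      exact ⟨p.1, p.2, hp.1, rfl⟩
  have h2 : Set.InjOn (fun p : Fin m × Fin m => swap p.1 p.2) L := by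
    rintro ⟨a, b⟩ ⟨-, hab⟩ ⟨c, e⟩ ⟨-, hce⟩ he
    rcases pair_of_swap_eq hab.ne he with ⟨rfl, rfl⟩ | ⟨rfl, rfl⟩
    · rfl
    · exact absurd (hab.trans hce) (lt_irrefl _)
  have h3 : {p : Fin m × Fin m | Q p.1 p.2} = L ∪ Prod.swap '' L := by
    ext ⟨x, y⟩
    constructor
    · intro hxy
      rcases lt_trichotomy x y with h | h | h
      · exact Or.inl ⟨hxy, h⟩
      · exact absurd (show Q y y from h ▸ hxy) (hi y)
      · exact Or.inr ⟨(y, x), ⟨hs x y hxy, h⟩, rfl⟩
    · rintro (h | ⟨⟨a, b⟩, h, he⟩)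
      · exact h.1
      · obtain ⟨rfl, rfl⟩ := Prod.mk.injEq _ _ _ _ ▸ he
        exact hs _ _ h.1
  have h4 : Disjoint L (Prod.swap '' L) := by
    rw [Set.disjoint_left]
    rintro p ⟨-, hp⟩ ⟨q, ⟨-, hq⟩, rfl⟩
    exact absurd (hp.trans hq) (lt_irrefl _)
  rw [h3, Set.ncard_union_eq h4 (Set.toFinite _) (Set.toFinite _),
    Set.ncard_image_of_injective _ Prod.swap_injective, h1, Set.ncard_image_of_injOn h2, two_mul]

theorem two_mul_ncard_avoid (S : Finset (Fin m)) :
    2 * (swapsOf fun x y => x ≠ y ∧ x ∉ S ∧ y ∉ S).ncard = (m - S.card) * (m - S.card - 1) := by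
  rw [two_mul_ncard_swapsOf _ (fun x y h => ⟨h.1.symm, h.2.2, h.2.1⟩) fun x h => h.1 rfl]
  have h : {p : Fin m × Fin m | p.1 ≠ p.2 ∧ p.1 ∉ S ∧ p.2 ∉ S} = ↑(Sᶜ.offDiag) := by
    ext p
    simp [Finset.mem_offDiag]
    tauto
  rw [h, Set.ncard_coe_finset, Finset.offDiag_card, Finset.card_compl, Fintype.card_fin]
  conv_rhs => rw [Nat.mul_sub, mul_one]

/-- Closed under thirds with valency `C(m - 3, 2)`: the pairs avoiding one point. -/
theorem avoid_point (h5 : 5 ≤ m) (h6 : m ≠ 6) (R : Fin m → Fin m → Prop)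
    (hs : ∀ x y, R x y → R y x) (hi : ∀ x, ¬ R x x)
    (ht : ∀ x y z, R x y → R y z → x ≠ z → R x z) (hne : ∃ i j, R i j)
    (hdeg : ∀ i j, R i j → 2 * (swapsOf fun x y => R x y ∧ x ≠ i ∧ x ≠ j ∧ y ≠ i ∧ y ≠ j).ncard =
      (m - 3) * (m - 4)) :
    (m = 5 ∧ 2 * (swapsOf R).ncard = 4) ∨ ∃ o, ∀ i j, R i j ↔ i ≠ j ∧ i ≠ o ∧ j ≠ o := by
  classical
  let P : Finset (Fin m × Fin m) := Finset.univ.filter fun p => R p.1 p.2
  let N : Fin m → Finset (Fin m) := fun x => Finset.univ.filter (R x)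
  have mN : ∀ x y, y ∈ N x ↔ R x y := fun x y => by simp [N]
  have mP : ∀ p : Fin m × Fin m, p ∈ P ↔ R p.1 p.2 := fun p => by simp [P]
  -- pairs meeting an edge
  have hedge : ∀ i j, R i j → P.card + 2 = (m - 3) * (m - 4) + 2 * ((N i).card + (N j).card) := by
    intro i j hij
    have hne : i ≠ j := fun e => hi j (e ▸ hij)
    let A : Finset (Fin m × Fin m) := ({i} : Finset (Fin m)) ×ˢ N i ∪ ({j} : Finset (Fin m)) ×ˢ N j
    let B : Finset (Fin m × Fin m) := A.image Prod.swap
    let F : Finset (Fin m × Fin m) := P.filter fun p => p.1 ≠ i ∧ p.1 ≠ j ∧ p.2 ≠ i ∧ p.2 ≠ j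
    have mA : ∀ p : Fin m × Fin m, p ∈ A ↔ (p.1 = i ∨ p.1 = j) ∧ R p.1 p.2 := by
      rintro ⟨x, y⟩
      simp only [A, Finset.mem_union, Finset.mem_product, Finset.mem_singleton, mN]
      constructor
      · rintro (⟨rfl, h⟩ | ⟨rfl, h⟩)
        exacts [⟨Or.inl rfl, h⟩, ⟨Or.inr rfl, h⟩]
      · rintro ⟨rfl | rfl, h⟩
        exacts [Or.inl ⟨rfl, h⟩, Or.inr ⟨rfl, h⟩]
    have mB : ∀ p : Fin m × Fin m, p ∈ B ↔ (p.2 = i ∨ p.2 = j) ∧ R p.1 p.2 := by
      rintro ⟨x, y⟩
      simp only [B, Finset.mem_image]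
      constructor
      · rintro ⟨⟨a, b⟩, h, he⟩
        obtain ⟨rfl, rfl⟩ := Prod.mk.injEq _ _ _ _ ▸ he
        exact ⟨((mA _).1 h).1, hs _ _ ((mA _).1 h).2⟩
      · rintro ⟨h1, h2⟩
        exact ⟨(y, x), (mA _).2 ⟨h1, hs _ _ h2⟩, rfl⟩
    have hA : A.card = (N i).card + (N j).card := by
      rw [Finset.card_union_of_disjoint, Finset.card_product, Finset.card_product,
        Finset.card_singleton, Finset.card_singleton, one_mul, one_mul]
      rw [Finset.disjoint_left]
      intro p hp hp'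
      simp only [Finset.mem_product, Finset.mem_singleton] at hp hp'
      exact hne (hp.1.symm.trans hp'.1)
    have hB : B.card = A.card := Finset.card_image_of_injective _ Prod.swap_injective
    have hAB : A ∩ B = {(i, j), (j, i)} := by
      ext p
      rw [Finset.mem_inter, mA, mB]
      simp only [Finset.mem_insert, Finset.mem_singleton]
      constructor
      · obtain ⟨x, y⟩ := p
        rintro ⟨⟨h1 | h1, h⟩, ⟨h2 | h2, -⟩⟩ <;> simp only at h1 h2 h <;> subst h1 <;> subst h2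
        exacts [absurd h (hi _), Or.inl rfl, Or.inr rfl, absurd h (hi _)]
      · rintro (rfl | rfl)
        exacts [⟨⟨Or.inl rfl, hij⟩, Or.inr rfl, hij⟩, ⟨⟨Or.inr rfl, hs _ _ hij⟩, Or.inl rfl, hs _ _ hij⟩]
    have hF : F.card = (m - 3) * (m - 4) := by
      rw [← hdeg i j hij, two_mul_ncard_swapsOf _ (fun x y h => ⟨hs x y h.1, h.2.2.2.1, h.2.2.2.2, h.2.1,
        h.2.2.1⟩) fun x h => hi x h.1, ← Set.ncard_coe_finset]
      congr 1
      ext p
      simp [F, mP]
    have hP : P = F ∪ (A ∪ B) := by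
      ext p
      simp only [F, Finset.mem_union, Finset.mem_filter, mP, mA, mB]
      tauto
    have hd : Disjoint F (A ∪ B) := by
      rw [Finset.disjoint_left]
      intro p hp hp'
      simp only [F, Finset.mem_filter] at hp
      simp only [Finset.mem_union, mA, mB] at hp'
      tauto
    have hu := Finset.card_union_add_card_inter A B
    rw [hAB, Finset.card_pair (fun e => hne (congrArg Prod.fst e)), hB, hA] at hu
    rw [hP, Finset.card_union_of_disjoint hd, hF]
    omega
  -- classes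
  have hclass : ∀ i j, R i j → insert i (N i) = insert j (N j) := by
    have key : ∀ i j, R i j → insert i (N i) ⊆ insert j (N j) := by
      intro i j hij z hz
      simp only [Finset.mem_insert, mN] at hz ⊢
      rcases hz with rfl | hz
      · exact Or.inr (hs _ _ hij)
      · by_cases hzj : z = j
        · exact Or.inl hzj
        · exact Or.inr (ht j i z (hs _ _ hij) hz (Ne.symm hzj))
    exact fun i j hij => (key i j hij).antisymm (key j i (hs _ _ hij))
  have hins : ∀ x, (insert x (N x)).card = (N x).card + 1 := fun x =>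
    Finset.card_insert_of_notMem fun h => hi x ((mN x x).1 h)
  obtain ⟨i₀, j₀, h₀⟩ := hne
  set t := (N i₀).card with htdef
  have hpair : ∀ i j, R i j → (N i).card = (N j).card := fun i j hij => by
    have := hins i
    rw [hclass i j hij, hins j] at this
    omega
  have hall : ∀ x y, R x y → (N x).card = t := fun x y hxy => by
    have := hedge x y hxy
    have := hedge i₀ j₀ h₀
    have := hpair x y hxy
    have := hpair i₀ j₀ h₀
    omega
  let U : Finset (Fin m) := Finset.univ.filter fun x => ∃ y, R x y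
  have hU : ∀ x, x ∈ U ↔ ∃ y, R x y := fun x => by simp [U]
  have hPU : P.card = U.card * t := by
    rw [Finset.card_eq_sum_card_fiberwise (f := Prod.fst) (t := U) fun p hp =>
      (hU _).2 ⟨_, (mP p).1 hp⟩]
    rw [Finset.sum_congr rfl (g := fun _ => t) fun x hx => ?_, Finset.sum_const, smul_eq_mul]
    obtain ⟨y, hxy⟩ := (hU x).1 hx
    rw [← hall x y hxy, show N x = (P.filter fun p => p.1 = x).image Prod.snd by
      ext z; simp [N, P], Finset.card_image_of_injOn]
    intro p hp q hq he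
    simp only [Finset.coe_filter, Set.mem_setOf_eq] at hp hq
    exact Prod.ext (hp.2.trans hq.2.symm) he
  have heq : U.card * t + 2 = (m - 3) * (m - 4) + 4 * t := by
    have := hedge i₀ j₀ h₀
    have := hpair i₀ j₀ h₀
    rw [← hPU]
    omega
  have hcl : ∀ x ∈ U, insert x (N x) ⊆ U := by
    intro x hx z hz
    rcases Finset.mem_insert.1 hz with rfl | hz
    · exact hx
    · exact (hU z).2 ⟨x, hs _ _ ((mN x z).1 hz)⟩
  have hUm : U.card ≤ m := (Finset.card_le_univ U).trans_eq (Fintype.card_fin m)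
  have hm4 : 4 ≤ m := by omega
  zify [show 3 ≤ m by omega, hm4] at heq
  have h0U : i₀ ∈ U := (hU _).2 ⟨j₀, h₀⟩
  by_cases hone : U ⊆ insert i₀ (N i₀)
  · right
    have hUt : U = insert i₀ (N i₀) := hone.antisymm (hcl i₀ h0U)
    have hu : U.card = t + 1 := by rw [hUt, hins]
    rw [hu] at heq
    push_cast at heq
    have hm2 : t + 2 = m := by
      have e : ((t : ℤ) - ((m : ℤ) - 2)) * ((t : ℤ) + (m : ℤ) - 5) = 0 := by linear_combination heq
      have ht1 : 1 ≤ t := Finset.card_pos.2 ⟨j₀, (mN _ _).2 h₀⟩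
      rcases mul_eq_zero.1 e with e | e <;> omega
    obtain ⟨o, ho⟩ : ∃ o, Uᶜ = {o} := Finset.card_eq_one.1 (by
      rw [Finset.card_compl, Fintype.card_fin, hu]; omega)
    have hmem : ∀ x, x ∈ U ↔ x ≠ o := fun x => by
      rw [← not_iff_not, ← Finset.mem_compl, ho, Finset.mem_singleton, not_not]
    refine ⟨o, fun i j => ⟨fun h => ⟨fun e => hi j (e ▸ h), (hmem i).1 ((hU i).2 ⟨j, h⟩),
      (hmem j).1 ((hU j).2 ⟨i, hs _ _ h⟩)⟩, ?_⟩⟩
    rintro ⟨hij, hio, hjo⟩
    have hiU := (hmem i).2 hio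
    obtain ⟨y, hy⟩ := (hU i).1 hiU
    have : insert i (N i) = U :=
      Finset.eq_of_subset_of_card_le (hcl i hiU) (by rw [hins, hall i y hy, hu])
    have hj : j ∈ insert i (N i) := this.symm ▸ (hmem j).2 hjo
    rcases Finset.mem_insert.1 hj with e | hj
    · exact absurd e.symm hij
    · exact (mN i j).1 hj
  · left
    obtain ⟨x, hxU, hx⟩ := Finset.not_subset.1 hone
    obtain ⟨y, hxy⟩ := (hU x).1 hxU
    have hdis : Disjoint (insert x (N x)) (insert i₀ (N i₀)) := by
      rw [Finset.disjoint_left]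
      intro z hz hz'
      apply hx
      have e1 : insert z (N z) = insert x (N x) := by
        rcases Finset.mem_insert.1 hz with rfl | hz
        exacts [rfl, (hclass x z ((mN _ _).1 hz)).symm]
      have e2 : insert z (N z) = insert i₀ (N i₀) := by
        rcases Finset.mem_insert.1 hz' with rfl | hz'
        exacts [rfl, (hclass i₀ z ((mN _ _).1 hz')).symm]
      rw [← e2, e1]
      exact Finset.mem_insert_self _ _
    have hu2 : 2 * (t + 1) ≤ U.card := by
      have := Finset.card_le_card (Finset.union_subset (hcl x hxU) (hcl i₀ h0U))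
      rw [Finset.card_union_of_disjoint hdis, hins, hins, hall x y hxy] at this
      omega
    have hm5 : m = 5 := by
      by_contra hne5
      have hm7 : 7 ≤ m := by omega
      nlinarith [mul_nonneg (show (0 : ℤ) ≤ (m : ℤ) - U.card by omega) (show (0 : ℤ) ≤ t by omega),
        mul_nonneg (show (0 : ℤ) ≤ (m : ℤ) - 2 * (t + 1) by omega) (show (0 : ℤ) ≤ (m : ℤ) - 4 by omega),
        mul_pos (show (0 : ℤ) < (m : ℤ) - 2 by omega) (show (0 : ℤ) < (m : ℤ) - 6 by omega)]
    refine ⟨hm5, ?_⟩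
    subst hm5
    have ht1 : t ≤ 1 := by omega
    have ht0 : 1 ≤ t := Finset.card_pos.2 ⟨j₀, (mN _ _).2 h₀⟩
    have ht2 : t = 1 := by omega
    rw [two_mul_ncard_swapsOf R hs hi, show {p : Fin 5 × Fin 5 | R p.1 p.2} = ↑P by ext p; simp [P],
      Set.ncard_coe_finset, hPU]
    rw [ht2] at heq ⊢
    push_cast at heq
    omega

end CfsgLib.FischerThm.SymAux
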